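import Mathlib
import Cfsg.Agent.Lib.SymChar.Syl
import Cfsg.Agent.Lib.PLocal.Rank2
import Cfsg.Agent.Lib.PGroup.RankTwo3
import Cfsg.Agent.Lib.Metacyc.Basic

/-! Bicyclic `2`-groups `P = ⟨x⟩⟨y⟩`: the filtration by the subgroups `⟨x^(2^i)⟩⟨y^(2^j)⟩`, a
special case of Blackburn's criterion for metacyclic groups, and the involutions of the Frattini
subgroup. -/

set_option autoImplicit false

namespace CfsgLib.TwoGrp.Bic

open Subgroup
open scoped commutatorElement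

universe u

variable {P : Type*} [Group P] {a b : P}

/-- The subgroup generated by two elements. -/
def B (a b : P) : Subgroup P := zpowers a ⊔ zpowers b

/-- The subgroup generated by `a` and `b` is the product of the two cyclic groups. -/
def Bi (a b : P) : Prop := ∀ g ∈ B a b, ∃ i j : ℤ, g = a ^ i * b ^ j

theorem left_mem : a ∈ B a b := mem_sup_left (mem_zpowers a)

theorem right_mem : b ∈ B a b := mem_sup_right (mem_zpowers b)

theorem B_le {H : Subgroup P} (ha : a ∈ H) (hb : b ∈ H) : B a b ≤ H :=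
  sup_le (zpowers_le.2 ha) (zpowers_le.2 hb)

theorem B_comm (a b : P) : B a b = B b a := sup_comm _ _

theorem mem_symm {g : P} (h : g ∈ B a b) : g ∈ B b a := B_comm a b ▸ h

theorem normal_symm (h : (B a b).Normal) : (B b a).Normal := B_comm a b ▸ h

theorem mul_mem_B (i j : ℤ) : a ^ i * b ^ j ∈ B a b :=
  mul_mem (zpow_mem left_mem i) (zpow_mem right_mem j)

theorem sq_le : B (a ^ 2) (b ^ 2) ≤ B a b := B_le (pow_mem left_mem 2) (pow_mem right_mem 2)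

theorem sq_le_left : B (a ^ 2) b ≤ B a b := B_le (pow_mem left_mem 2) right_mem

theorem sq_le_right : B a (b ^ 2) ≤ B a b := B_le left_mem (pow_mem right_mem 2)

theorem Bi.symm (h : Bi a b) : Bi b a := fun g hg => by
  obtain ⟨i, j, e⟩ := h g⁻¹ (inv_mem (mem_symm hg))
  exact ⟨-j, -i, by rw [← inv_inv g, e]; group⟩

theorem mem_of_odd (hP : IsPGroup 2 P) {i : ℤ} (hi : Odd i) {H : Subgroup P} (h : a ^ i ∈ H) :
    a ∈ H := by
  have : Fact (Nat.Prime 2) := ⟨Nat.prime_two⟩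
  obtain ⟨k, hk⟩ := IsPGroup.iff_orderOf.1 hP a
  refine zpowers_le.2 h (mem_zpowers_zpow_iff.2 ?_)
  rw [hk, Int.gcd_eq_natAbs, Int.natAbs_natCast]
  exact Nat.Coprime.pow_right k ((Nat.coprime_two_right).2 (Int.natAbs_odd.2 hi))

theorem zpow_two_mul (a : P) (i : ℤ) : a ^ (2 * i) = (a ^ 2) ^ i := by
  rw [zpow_mul]; norm_cast

theorem zpow_even_mem {i : ℤ} (hi : Even i) {H : Subgroup P} (h : a ^ 2 ∈ H) : a ^ i ∈ H := by
  obtain ⟨k, rfl⟩ := hi
  rw [← two_mul, zpow_two_mul]; exact zpow_mem h k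

theorem Bi.sq_left [Finite P] (hP : IsPGroup 2 P) (h : Bi a b) : Bi (a ^ 2) b := by
  have : Fact (Nat.Prime 2) := ⟨Nat.prime_two⟩
  intro g hg
  by_cases hab : a ∈ zpowers b
  · obtain ⟨j, rfl⟩ := B_le (pow_mem hab 2) (mem_zpowers b) hg
    exact ⟨0, j, by simp⟩
  obtain ⟨A, h1, h2, h3, -, -, h4⟩ := SymChar.exists_max_ge (hP.to_subgroup (B a b))
    (H := zpowers b) fun hle => hab (hle left_mem)
  have hb : b ∈ A := h1 ⟨right_mem, mem_zpowers b⟩
  have ha : a ∉ A := fun ha => by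
    rw [relIndex_eq_one.2 (B_le ha hb)] at h3; omega
  have hgA : g ∈ A := B_le (h4 a left_mem) hb hg
  obtain ⟨i, j, rfl⟩ := h g (h2 hgA)
  rcases Int.even_or_odd i with ⟨k, rfl⟩ | hi
  · exact ⟨k, j, by rw [← two_mul, zpow_two_mul]⟩
  · exact absurd (mem_of_odd hP hi ((A.mul_mem_cancel_right (zpow_mem hb j)).1 hgA)) ha

theorem Bi.sq_right [Finite P] (hP : IsPGroup 2 P) (h : Bi a b) : Bi a (b ^ 2) :=
  (h.symm.sq_left hP).symm

theorem Bi.cases (h : Bi a b) {g : P} (hg : g ∈ B a b) :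
    g ∈ B (a ^ 2) b ∨ a⁻¹ * g ∈ B (a ^ 2) b := by
  obtain ⟨i, j, rfl⟩ := h g hg
  rcases Int.even_or_odd i with hi | hi
  · exact Or.inl (mul_mem (zpow_even_mem hi left_mem) (zpow_mem right_mem j))
  · right
    rw [show a⁻¹ * (a ^ i * b ^ j) = a ^ (i - 1) * b ^ j by group]
    exact mul_mem (zpow_even_mem (hi.sub_odd odd_one) left_mem) (zpow_mem right_mem j)

theorem Bi.conj_mem (h : Bi a b) {k : P} (hk : k ∈ B (a ^ 2) b) : a⁻¹ * k * a ∈ B (a ^ 2) b := by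
  by_cases ha : a ∈ B (a ^ 2) b
  · exact mul_mem (mul_mem (inv_mem ha) hk) ha
  rcases h.cases (mul_mem (mul_mem (inv_mem left_mem) (sq_le_left hk)) left_mem) with h1 | h1
  · exact h1
  · refine absurd ?_ ha
    rw [show a⁻¹ * (a⁻¹ * k * a) = (a ^ 2)⁻¹ * k * a by group] at h1
    exact ((B (a ^ 2) b).mul_mem_cancel_left (mul_mem (inv_mem left_mem) hk)).1 h1

theorem Bi.sq_mem_left (h : Bi a b) {g : P} (hg : g ∈ B a b) : g ^ 2 ∈ B (a ^ 2) b := by
  rcases h.cases hg with h1 | h1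
  · exact pow_mem h1 2
  · rw [show g ^ 2 = a ^ 2 * (a⁻¹ * (a⁻¹ * g) * a) * (a⁻¹ * g) by rw [pow_two, pow_two]; group]
    exact mul_mem (mul_mem left_mem (h.conj_mem h1)) h1

theorem Bi.sq_mem [Finite P] (hP : IsPGroup 2 P) (h : Bi a b) {g : P} (hg : g ∈ B a b) :
    g ^ 2 ∈ B (a ^ 2) (b ^ 2) := by
  obtain ⟨i, j, e1⟩ := h.sq_left hP _ (h.sq_mem_left hg)
  obtain ⟨k, l, e2⟩ := (h.symm.sq_left hP).symm _ (mem_symm (h.symm.sq_mem_left (mem_symm hg)))
  rcases Int.even_or_odd j with hj | hj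
  · rw [e1]; exact mul_mem (zpow_mem left_mem i) (zpow_even_mem hj right_mem)
  rcases Int.even_or_odd k with hk | hk
  · rw [e2]; exact mul_mem (zpow_even_mem hk left_mem) (zpow_mem right_mem l)
  have e : a ^ (2 * i - k) = b ^ (2 * l - j) := by
    rw [← zpow_two_mul] at e1 e2
    calc a ^ (2 * i - k) = a ^ (-k) * (a ^ (2 * i) * b ^ j) * b ^ (-j) := by group
      _ = a ^ (-k) * (a ^ k * b ^ (2 * l)) * b ^ (-j) := by rw [← e1, e2]
      _ = b ^ (2 * l - j) := by group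
  have hb : b ∈ zpowers a :=
    mem_of_odd hP ((even_two_mul l).sub_odd hj) (e ▸ zpow_mem (mem_zpowers a) _)
  obtain ⟨m, rfl⟩ := B_le (mem_zpowers a) hb hg
  change (a ^ m) ^ 2 ∈ _
  rw [show (a ^ m) ^ 2 = (a ^ 2) ^ m by rw [← zpow_two_mul]; group]
  exact zpow_mem left_mem m

theorem Bi.map_mem [Finite P] (hP : IsPGroup 2 P) (h : Bi a b) (σ : P →* P)
    (hσ : ∀ g ∈ B a b, σ g ∈ B a b) : ∀ g ∈ B (a ^ 2) (b ^ 2), σ g ∈ B (a ^ 2) (b ^ 2) := by
  intro g hg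
  refine B_le (H := (B (a ^ 2) (b ^ 2)).comap σ) ?_ ?_ hg
  · rw [mem_comap, map_pow]; exact h.sq_mem hP (hσ a left_mem)
  · rw [mem_comap, map_pow]; exact h.sq_mem hP (hσ b right_mem)

theorem Bi.normal_sq [Finite P] (hP : IsPGroup 2 P) (h : Bi a b) (hn : (B a b).Normal) :
    (B (a ^ 2) (b ^ 2)).Normal :=
  ⟨fun n hn' g => h.map_mem hP (MulAut.conj g).toMonoidHom (fun k hk => hn.conj_mem k hk g) n hn'⟩

/-- One level of the filtration. -/
structure Lev (a b : P) : Prop where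
  bi : Bi a b
  n0 : (B a b).Normal
  n1 : (B (a ^ 2) b).Normal
  n2 : (B a (b ^ 2)).Normal

theorem Lev.symm (h : Lev a b) : Lev b a :=
  ⟨h.bi.symm, normal_symm h.n0, normal_symm h.n2, normal_symm h.n1⟩

theorem Lev.sq [Finite P] (hP : IsPGroup 2 P) (h : Lev a b) : Lev (a ^ 2) (b ^ 2) :=
  ⟨(h.bi.sq_left hP).sq_right hP, h.bi.normal_sq hP h.n0, (h.bi.sq_left hP).normal_sq hP h.n1,
    (h.bi.sq_right hP).normal_sq hP h.n2⟩

theorem Bi.normal_left [Finite P] (h : Bi a b) (ht : B a b = ⊤) : (B (a ^ 2) b).Normal := by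
  refine normalizer_eq_top_iff.1 (top_le_iff.1 (ht ▸ B_le ?_ (le_normalizer right_mem)))
  refine (normalizer _).inv_mem_iff.1 (mem_normalizer_fintype fun k hk => ?_)
  simpa using h.conj_mem hk

theorem lev_top [Finite P] (h : ∀ g : P, ∃ i j : ℤ, g = a ^ i * b ^ j) : B a b = ⊤ ∧ Lev a b := by
  have ht : B a b = ⊤ := top_le_iff.1 fun g _ => by
    obtain ⟨i, j, rfl⟩ := h g; exact mul_mem_B i j
  have hb : Bi a b := fun g _ => h g
  exact ⟨ht, hb, ht ▸ inferInstance, hb.normal_left ht,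
    normal_symm (hb.symm.normal_left (B_comm a b ▸ ht))⟩

theorem Lev.comm_left [Finite P] (hP : IsPGroup 2 P) (h : Lev a b) (g : P) :
    ⁅g, a⁆ ∈ B (a ^ 2) (b ^ 2) := by
  have hn := (h.sq hP).n0
  rcases (h.bi.sq_right hP).cases (h.n2.conj_mem a left_mem g) with h1 | h1
  · have ha : a ∈ B (a ^ 2) (b ^ 2) := by simpa [mul_assoc] using hn.conj_mem _ h1 g⁻¹
    exact mul_mem h1 (inv_mem ha)
  · simpa [commutatorElement_def, mul_assoc] using hn.conj_mem _ h1 a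

theorem Lev.comm [Finite P] (hP : IsPGroup 2 P) (h : Lev a b) (g : P) {k : P} (hk : k ∈ B a b) :
    ⁅g, k⁆ ∈ B (a ^ 2) (b ^ 2) := by
  have := (h.sq hP).n0
  have h1 := (Metacyc.commutator_mem_iff _ _ _).1 (h.comm_left hP g)
  have h2 := (Metacyc.commutator_mem_iff _ _ _).1 (mem_symm (h.symm.comm_left hP g))
  obtain ⟨i, j, rfl⟩ := h.bi k hk
  rw [Metacyc.commutator_mem_iff, QuotientGroup.mk_mul, QuotientGroup.mk_zpow,
    QuotientGroup.mk_zpow]
  exact (h1.zpow_right i).mul_right (h2.zpow_right j)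

/-- The Frattini subgroup of a bicyclic `2`-group is powerful. -/
theorem Lev.comm_pow [Finite P] (hP : IsPGroup 2 P) (h : Lev a b) {u v : P}
    (hu : u ∈ B (a ^ 2) (b ^ 2)) (hv : v ∈ B (a ^ 2) (b ^ 2)) :
    ⁅u, v⁆ ∈ B (((a ^ 2) ^ 2) ^ 2) (((b ^ 2) ^ 2) ^ 2) := by
  have h1 := h.sq hP
  have h2 := h1.sq hP
  have := (h2.sq hP).n0
  have hc : ⁅b, a ^ 2⁆ ∈ B ((a ^ 2) ^ 2) ((b ^ 2) ^ 2) := h1.comm hP b left_mem
  have h3 : ⁅b ^ 2, a ^ 2⁆ ∈ B (((a ^ 2) ^ 2) ^ 2) (((b ^ 2) ^ 2) ^ 2) := by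
    rw [show ⁅b ^ 2, a ^ 2⁆ = ⁅b, ⁅b, a ^ 2⁆⁆ * ⁅b, a ^ 2⁆ ^ 2 by
      simp only [commutatorElement_def, pow_two b, pow_two (b * a ^ 2 * b⁻¹ * (a ^ 2)⁻¹)]; group]
    exact mul_mem (h2.comm hP b hc) (h2.bi.sq_mem hP hc)
  have h4 := (Metacyc.commutator_mem_iff _ _ _).1 h3
  obtain ⟨i, j, rfl⟩ := h1.bi u hu
  obtain ⟨k, l, rfl⟩ := h1.bi v hv
  rw [Metacyc.commutator_mem_iff]
  simp only [QuotientGroup.mk_mul, QuotientGroup.mk_zpow]
  exact ((Commute.refl _).zpow_zpow i k).mul_right (h4.symm.zpow_zpow i l) |>.mul_left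
    ((h4.zpow_zpow j k).mul_right ((Commute.refl _).zpow_zpow j l))

theorem der_le {D : Subgroup P} [D.Normal] (ht : B a b = ⊤) (h : ⁅a, b⁆ ∈ D) :
    commutator P ≤ D := by
  have key : ∀ {g : P}, ⁅g, a⁆ ∈ D → ⁅g, b⁆ ∈ D → ∀ k, ⁅g, k⁆ ∈ D := fun {g} h1 h2 k => by
    rw [Metacyc.commutator_mem_iff] at h1 h2 ⊢
    have : B a b ≤ (centralizer {(g : P ⧸ D)}).comap (QuotientGroup.mk' D) :=
      B_le (mem_centralizer_singleton_iff.2 h1.symm) (mem_centralizer_singleton_iff.2 h2.symm)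
    exact (mem_centralizer_singleton_iff.1 (this (ht ▸ mem_top k))).symm
  have symm : ∀ {g k : P}, ⁅g, k⁆ ∈ D → ⁅k, g⁆ ∈ D := fun h => by
    rw [← commutatorElement_inv]; exact inv_mem h
  refine Subgroup.commutator_le.2 fun g _ k _ => key (symm (key ?_ h g)) (symm (key (symm h) ?_ g)) k <;>
    simp

theorem normal_zpowers {z : P} (hz : z ∈ center P) : (zpowers z).Normal :=
  ⟨fun n hn g => by
    rw [mem_center_iff.1 (zpowers_le.2 hz hn) g, mul_inv_cancel_right]; exact hn⟩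

theorem isMetacyclic_base [Finite P] (hP : IsPGroup 2 P)
    (h : ∀ g : P, ∃ i j : ℤ, g = a ^ i * b ^ j) {i j : ℤ}
    (hc : ⁅a, b⁆ = ((a ^ 2) ^ 2) ^ i * (b ^ 2) ^ j) (hz : ⁅a, b⁆ ∈ center P)
    (h2 : ⁅a, b⁆ ^ 2 = 1) : Cfsg.IsMetacyclic P := by
  have : Fact (Nat.Prime 2) := ⟨Nat.prime_two⟩
  have ht := (lev_top h).1
  have : (zpowers ⁅a, b⁆).Normal := normal_zpowers hz
  have hD : commutator P ≤ zpowers ⁅a, b⁆ := der_le ht (mem_zpowers _)
  by_contra hm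
  have hpair : ∀ g k : P, ⁅a, b⁆ ∈ zpowers g → B g k ≠ ⊤ := fun g k hg hk =>
    hm (PLocal.Rank2.isMetacyclic_of_pair (hD.trans (zpowers_le.2 hg)) hk)
  have hab : Commute (a ^ 2) b := by
    have e := mem_center_iff.1 hz a
    rw [← commutatorElement_eq_one_iff_commute, ← h2,
      show ⁅a ^ 2, b⁆ = a * ⁅a, b⁆ * a⁻¹ * ⁅a, b⁆ by
        simp only [commutatorElement_def, pow_two]; group, e]
    simp [pow_two]
  have key : ∀ k : ℕ, ∃ g : P, g ^ 2 ^ (k + 1) = ⁅a, b⁆ := by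
    intro k
    induction k with
    | zero =>
      refine ⟨(a ^ 2) ^ i * b ^ j, ?_⟩
      rw [hc, zero_add, pow_one, (hab.zpow_zpow i j).mul_pow, ← zpow_two_mul (a ^ 2),
        ← zpow_two_mul b, pow_two ((a ^ 2) ^ i), pow_two (b ^ j), ← zpow_add, ← zpow_add, two_mul,
        two_mul]
    | succ k ih =>
      obtain ⟨g, hg⟩ := ih
      have hgz : ⁅a, b⁆ ∈ zpowers g := hg ▸ pow_mem (mem_zpowers g) _
      obtain ⟨m, n, rfl⟩ := h g
      rcases Int.even_or_odd m with ⟨m, rfl⟩ | hm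
      swap
      · refine absurd (top_le_iff.1 (ht ▸ B_le (mem_of_odd hP hm ?_) right_mem)) (hpair _ b hgz)
        exact (Subgroup.mul_mem_cancel_right _ (zpow_mem right_mem n)).1 left_mem
      rcases Int.even_or_odd n with ⟨n, rfl⟩ | hn
      swap
      · refine absurd (top_le_iff.1 (ht ▸ B_le right_mem (mem_of_odd hP hn ?_))) (hpair _ a hgz)
        exact (Subgroup.mul_mem_cancel_left _ (zpow_mem right_mem _)).1 left_mem
      refine ⟨a ^ m * b ^ n, ?_⟩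
      have hw : ⁅b ^ n, a ^ m⁆ ∈ zpowers ⁅a, b⁆ := hD (commutator_mem_commutator trivial trivial)
      have hwz := mem_center_iff.1 (zpowers_le.2 hz hw)
      have hw2 : ⁅b ^ n, a ^ m⁆ ^ 2 = 1 := by
        obtain ⟨r, hr⟩ := hw
        rw [← hr]
        change (⁅a, b⁆ ^ r) ^ 2 = 1
        rw [← zpow_natCast, ← zpow_mul, mul_comm, zpow_mul, zpow_natCast, h2, one_zpow]
      have e : (a ^ m * b ^ n) ^ 2 = ⁅b ^ n, a ^ m⁆ * (a ^ (m + m) * b ^ (n + n)) := by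
        calc (a ^ m * b ^ n) ^ 2 = a ^ m * ⁅b ^ n, a ^ m⁆ * (a ^ m * b ^ (n + n)) := by
              rw [commutatorElement_def, pow_two]; group
          _ = _ := by rw [hwz]; group
      rw [pow_succ' 2 (k + 1), pow_mul, e, Commute.mul_pow (hwz _).symm, hg, pow_succ' 2 k,
        pow_mul, hw2, one_pow, one_mul]
  obtain ⟨k, hk⟩ := hP.exists_card_eq
  obtain ⟨g, hg⟩ := key k
  rw [pow_succ 2 k, pow_mul, ← hk, pow_card_eq_one', one_pow] at hg
  exact hpair a b (hg ▸ one_mem _) ht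

theorem isMetacyclic_aux (n : ℕ) : ∀ (H : Type u) [Group H] [Finite H], Nat.card H = n →
    IsPGroup 2 H → ∀ a b : H, (∀ g : H, ∃ i j : ℤ, g = a ^ i * b ^ j) →
      (∃ i j : ℤ, ⁅a, b⁆ = ((a ^ 2) ^ 2) ^ i * (b ^ 2) ^ j) → Cfsg.IsMetacyclic H := by
  have : Fact (Nat.Prime 2) := ⟨Nat.prime_two⟩
  induction n using Nat.strong_induction_on with
  | _ n ih =>
  intro H _ _ hn hP a b h ⟨i, j, hc⟩
  by_cases hb : ⁅a, b⁆ ∈ center H ∧ ⁅a, b⁆ ^ 2 = 1
  · exact isMetacyclic_base hP h hc hb.1 hb.2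
  have hcm : ⁅a, b⁆ ∈ commutator H := commutator_mem_commutator trivial trivial
  obtain ⟨z, hzD, hz, hzo⟩ := PGroup.exists_mem_center_orderOf_eq hP (commutator H) fun e => by
    rw [e, mem_bot] at hcm; exact hb (by simp [hcm])
  have : (zpowers z).Normal := normal_zpowers hz
  have hzz : ∀ w ∈ zpowers z, w ∈ center H ∧ w ^ 2 = 1 := fun w hw =>
    ⟨zpowers_le.2 hz hw, by
      obtain ⟨r, rfl⟩ := hw
      change (z ^ r) ^ 2 = 1
      rw [← zpow_natCast, ← zpow_mul, mul_comm, zpow_mul, zpow_natCast, ← hzo, pow_orderOf_eq_one,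
        one_zpow]⟩
  have hlt : Nat.card (H ⧸ zpowers z) < n := by
    rw [← hn, card_eq_card_quotient_mul_card_subgroup (zpowers z), Nat.card_zpowers, hzo]
    have := Nat.card_pos (α := H ⧸ zpowers z)
    omega
  have hq := ih _ hlt (H ⧸ zpowers z) rfl (hP.to_quotient _) a b
    (fun g => by
      obtain ⟨g, rfl⟩ := QuotientGroup.mk_surjective g
      obtain ⟨k, l, rfl⟩ := h g
      exact ⟨k, l, by simp⟩)
    ⟨i, j, by simpa using congrArg (QuotientGroup.mk' (zpowers z)) hc⟩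
  obtain ⟨l, k, hl, hlk⟩ := Metacyc.exists_gen_of_isMetacyclic hq
  obtain ⟨l, rfl⟩ := QuotientGroup.mk_surjective l
  obtain ⟨k, rfl⟩ := QuotientGroup.mk_surjective k
  have ht : B l k = ⊤ := by
    refine frattini_nongenerating (top_le_iff.1 fun g _ => ?_)
    obtain ⟨r, s, e⟩ := hlk g
    rw [← QuotientGroup.mk_pow, ← QuotientGroup.mk_pow, ← QuotientGroup.mk_mul, eq_comm,
      QuotientGroup.eq] at e
    rw [show g = l ^ r * k ^ s * ((l ^ r * k ^ s)⁻¹ * g) by group]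
    exact mul_mem_sup (mul_mem (pow_mem left_mem r) (pow_mem right_mem s))
      (zpowers_le.2 (PGroup.commutator_le_frattini hP hzD) e)
  obtain ⟨m, hm⟩ := hl.conj_mem _ (mem_zpowers _) (k : H ⧸ zpowers z)
  have hm' : (l ^ m)⁻¹ * (k * l * k⁻¹) ∈ zpowers z := by
    rw [← QuotientGroup.eq]; simpa using hm
  obtain ⟨w, hw, e⟩ : ∃ w ∈ zpowers z, ⁅k, l⁆ = l ^ (m - 1) * w :=
    ⟨_, hm', by
      have := mem_center_iff.1 (hzz _ hm').1 l⁻¹
      calc ⁅k, l⁆ = l ^ m * ((l ^ m)⁻¹ * (k * l * k⁻¹) * l⁻¹) := by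
            rw [commutatorElement_def]; group
        _ = _ := by rw [← this]; group⟩
  have hwc := mem_center_iff.1 (hzz w hw).1
  have hdl : Commute ⁅k, l⁆ l := by
    rw [e]; exact ((Commute.refl l).zpow_left _).mul_left (hwc l).symm
  have : (zpowers ⁅k, l⁆).Normal := by
    refine normalizer_eq_top_iff.1 (top_le_iff.1 (ht ▸ B_le ?_ ?_))
    · exact centralizer_le_normalizer _ (by
        rw [zpowers_eq_closure, centralizer_closure]
        exact mem_centralizer_singleton_iff.2 hdl.symm)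
    · refine mem_normalizer_fintype fun x hx => ?_
      have e1 : k * ⁅k, l⁆ * k⁻¹ = ⁅k, l⁆ ^ (m - 1) * ⁅k, l⁆ := by
        calc k * ⁅k, l⁆ * k⁻¹ = (k * l * k⁻¹) ^ (m - 1) * (k * w * k⁻¹) := by
              rw [e, conj_zpow]; group
          _ = (⁅k, l⁆ * l) ^ (m - 1) * w := by
              rw [hwc k, commutatorElement_def]; simp
          _ = _ := by rw [hdl.mul_zpow, mul_assoc, ← e]
      obtain ⟨r, rfl⟩ := hx
      change k * ⁅k, l⁆ ^ r * k⁻¹ ∈ zpowers ⁅k, l⁆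
      rw [← conj_zpow, e1]
      exact zpow_mem (mul_mem (zpow_mem (mem_zpowers _) _) (mem_zpowers _)) r
  have hD : commutator H ≤ zpowers ⁅k, l⁆ := der_le (B_comm l k ▸ ht) (mem_zpowers _)
  obtain ⟨r, hr⟩ := hD hzD
  rcases Int.even_or_odd r with hr2 | hr2
  · have hzl : z ∈ zpowers l := by
      rw [← hr]
      refine zpow_even_mem hr2 ?_
      rw [e, Commute.mul_pow (hwc _), (hzz w hw).2, mul_one]
      exact pow_mem (zpow_mem (mem_zpowers l) _) 2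
    refine PLocal.Rank2.isMetacyclic_of_pair (hD.trans (zpowers_le.2 ?_)) ht
    rw [e]; exact mul_mem (zpow_mem (mem_zpowers l) _) (zpowers_le.2 hzl hw)
  · have hd : ⁅k, l⁆ ∈ zpowers z := mem_of_odd hP hr2 (by
      change ⁅k, l⁆ ^ r = z at hr
      rw [hr]; exact mem_zpowers z)
    exact absurd (hzz _ (zpowers_le.2 hd (hD hcm))) hb

theorem Bi.isMetacyclic [Finite P] (hP : IsPGroup 2 P) (h : Bi a b)
    (hc : ⁅a, b⁆ ∈ B ((a ^ 2) ^ 2) (b ^ 2)) : Cfsg.IsMetacyclic (B a b) := by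
  refine isMetacyclic_aux _ (B a b) rfl (hP.to_subgroup _) ⟨a, left_mem⟩ ⟨b, right_mem⟩
    (fun g => ?_) ?_
  · obtain ⟨i, j, e⟩ := h g g.2
    exact ⟨i, j, Subtype.ext e⟩
  · obtain ⟨i, j, e⟩ := (((h.sq_left hP).sq_left hP).sq_right hP) _ hc
    exact ⟨i, j, Subtype.ext e⟩

/-- The two maximal subgroups containing `a` or `b` are metacyclic. -/
theorem Lev.isMetacyclic [Finite P] (hP : IsPGroup 2 P) (h : Lev a b) :
    Cfsg.IsMetacyclic (B a (b ^ 2)) :=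
  (h.bi.sq_right hP).isMetacyclic hP ((h.sq hP).comm hP a right_mem)

end CfsgLib.TwoGrp.Bic
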