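import Mathlib
import Cfsg.Agent.Lib.TwoGrp.Bicyc
import Cfsg.Agent.Lib.TwoGrp.Rank2Fus
import Cfsg.Agent.Lib.TwoGrp.OddAut
import Cfsg.Agent.Lib.QDFus.Gen
import Cfsg.Agent.Lib.Transfer.Thompson
import Cfsg.Agent.Lib.Fusion.TwoSimple
import Cfsg.Agent.Lib.Fusion.MetaAut
import Cfsg.Agent.Lib.BG.S4a_2
import Cfsg.Agent.Lib.DihSyl.Fusion

/-! A finite group without subgroups of index two whose Sylow `2`-subgroups are bicyclic has
`2`-rank at most two. -/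

set_option autoImplicit false

namespace CfsgLib.TwoGrp.Bic

open Subgroup
open scoped commutatorElement

variable {P : Type*} [Group P]

theorem pRankLE_of_isMetacyclic [Finite P] (h : Cfsg.IsMetacyclic P) : Cfsg.PRankLE 2 2 P := by
  intro A _ hA
  obtain ⟨a, b, -, hab⟩ := Metacyc.exists_gen_of_isMetacyclic (PGroup.isMetacyclic_subgroup h A)
  have h2 : ∀ c : A, c ^ 2 = 1 := fun c => Subtype.ext (hA c c.2)
  have := Nat.card_le_card_of_surjective (fun k : Fin 2 × Fin 2 => a ^ (k.1 : ℕ) * b ^ (k.2 : ℕ))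
    fun g => by
      obtain ⟨i, j, rfl⟩ := hab g
      exact ⟨(⟨i % 2, Nat.mod_lt _ two_pos⟩, ⟨j % 2, Nat.mod_lt _ two_pos⟩), by
        rw [pow_eq_pow_mod i (h2 a), pow_eq_pow_mod j (h2 b)]⟩
  simpa using this

theorem sq_eq_one_of_not_dvd (hP : IsPGroup 2 P) {g : P} {m : ℤ} (hm : ¬ 4 ∣ m) (h : g ^ m = 1) :
    g ^ 2 = 1 := by
  rcases Int.even_or_odd m with ⟨k, rfl⟩ | hm2
  · rw [← two_mul, zpow_two_mul] at h
    exact mem_bot.1 (mem_of_odd hP (Int.odd_iff.2 (by omega)) (mem_bot.2 h))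
  · rw [mem_bot.1 (mem_of_odd hP hm2 (mem_bot.2 h)), one_pow]

theorem eq_of_sq_of_isCyclic [Finite P] {Q : Subgroup P} (hQ : IsCyclic Q) {u v : P} (hu : u ∈ Q)
    (hv : v ∈ Q) (hu2 : u ^ 2 = 1) (hv2 : v ^ 2 = 1) (hu1 : u ≠ 1) (hv1 : v ≠ 1) : u = v :=
  Transfer.eq_of_orderOf_eq_two_of_isCyclic hQ hu hv (orderOf_eq_prime hu2 hu1)
    (orderOf_eq_prime hv2 hv1)

/-- In a powerful metacyclic `2`-group the involutions commute. -/
theorem commute_of_powerful [Finite P] (hP : IsPGroup 2 P) (hm : Cfsg.IsMetacyclic P)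
    (hK : ∀ K : Subgroup P, (∀ g : P, (g ^ 2) ^ 2 ∈ K) → ∀ u v : P, ⁅u, v⁆ ∈ K) {u v : P}
    (hu : u ^ 2 = 1)
    (hv : v ^ 2 = 1) : u * v = v * u := by
  obtain ⟨g, h, hn, hgh⟩ := Metacyc.exists_gen_of_isMetacyclic hm
  have key : ∀ {u v : P}, u ^ 2 = 1 → u ∈ zpowers g → v * u = u * v := fun {u v} hu hug => by
    by_cases h1 : u = 1
    · simp [h1]
    rw [← mul_inv_eq_iff_eq_mul]
    exact eq_of_sq_of_isCyclic inferInstance (hn.conj_mem u hug v) hug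
      (by rw [conj_pow, hu]; simp) hu (by simpa using h1) h1
  by_cases hug : u ∈ zpowers g
  · exact (key hu hug).symm
  by_cases hvg : v ∈ zpowers g
  · exact key hv hvg
  have hq : ∀ e : P, (e : P ⧸ zpowers g) ∈ zpowers (h : P ⧸ zpowers g) := fun e => by
    obtain ⟨i, j, rfl⟩ := hgh e
    rw [QuotientGroup.mk_mul, (QuotientGroup.eq_one_iff _).2 (pow_mem (mem_zpowers g) i), one_mul,
      QuotientGroup.mk_pow]
    exact pow_mem (mem_zpowers _) j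
  have hq2 : ∀ {e : P}, e ^ 2 ∈ zpowers g → e ∉ zpowers g → u⁻¹ * e ∈ zpowers g :=
    fun {e} he heg => QuotientGroup.eq.1 (eq_of_sq_of_isCyclic inferInstance (hq u) (hq e)
      (by rw [← QuotientGroup.mk_pow, hu, QuotientGroup.mk_one])
      (by rw [← QuotientGroup.mk_pow, QuotientGroup.eq_one_iff]; exact he)
      (by rwa [Ne, QuotientGroup.eq_one_iff]) (by rwa [Ne, QuotientGroup.eq_one_iff]))
  have hu' : u⁻¹ = u := by rw [inv_eq_iff_mul_eq_one, ← pow_two, hu]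
  have hv' : v⁻¹ = v := by rw [inv_eq_iff_mul_eq_one, ← pow_two, hv]
  obtain ⟨i, hi⟩ := hq2 (hv ▸ one_mem _) hvg
  obtain ⟨r, hr⟩ := hn.conj_mem g (mem_zpowers g) u
  change g ^ i = u⁻¹ * v at hi
  change g ^ r = u * g * u⁻¹ at hr
  rw [hu'] at hi
  suffices hs : (u * v) ^ 2 = 1 by
    rw [pow_two, ← eq_inv_iff_mul_eq_one, mul_inv_rev, hu', hv'] at hs; exact hs
  have h1 : (u * v) ^ (r + 1) = 1 := by
    have e : (u * v) ^ r = v * u := by
      rw [← hi, ← zpow_mul, mul_comm, zpow_mul, hr, conj_zpow, hi, ← mul_assoc, ← pow_two, hu,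
        one_mul, hu']
    rw [zpow_add, e, zpow_one, mul_assoc, ← mul_assoc u, ← pow_two, hu, one_mul, ← pow_two, hv]
  by_cases h4 : ¬ 4 ∣ r + 1
  · exact sq_eq_one_of_not_dvd hP h4 h1
  obtain ⟨s, hs⟩ := not_not.1 h4
  suffices hg : g ^ 2 = 1 by
    rw [← hi, ← zpow_natCast, ← zpow_mul, mul_comm, zpow_mul, zpow_natCast, hg, one_zpow]
  obtain ⟨k, j, hkj⟩ := hgh u
  rcases Nat.even_or_odd j with ⟨j, rfl⟩ | hj
  · obtain ⟨t, ht⟩ := hn.conj_mem g (mem_zpowers g) (h ^ j)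
    change g ^ t = h ^ j * g * (h ^ j)⁻¹ at ht
    refine sq_eq_one_of_not_dvd hP (m := t * t - r) ?_ ?_
    · rw [show r = 4 * s - 1 by omega]
      rcases Int.even_or_odd' t with ⟨w, rfl | rfl⟩
      · rw [show 2 * w * (2 * w) - (4 * s - 1) = 4 * (w * w - s) + 1 by ring]; omega
      · rw [show (2 * w + 1) * (2 * w + 1) - (4 * s - 1) = 4 * (w * w + w - s) + 2 by ring]; omega
    · rw [zpow_sub, hr, mul_inv_eq_one, hkj]
      calc g ^ (t * t) = g ^ k * (g ^ t) ^ t * (g ^ k)⁻¹ := by group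
        _ = g ^ k * (h ^ j * g ^ t * (h ^ j)⁻¹) * (g ^ k)⁻¹ := by rw [ht, conj_zpow, ← ht]
        _ = _ := by rw [ht, pow_add]; group
  have hh : h ^ 2 ∈ zpowers g := by
    refine mem_of_odd hP (i := j) (by exact_mod_cast hj) ?_
    rw [← QuotientGroup.eq_one_iff]
    have := congrArg (fun e : P => (e : P ⧸ zpowers g) ^ 2) hkj
    simp only [QuotientGroup.mk_mul, (QuotientGroup.eq_one_iff _).2 (pow_mem (mem_zpowers g) k),
      one_mul] at this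
    rw [← QuotientGroup.mk_pow, hu, QuotientGroup.mk_one] at this
    rw [this, zpow_natCast, ← pow_mul, mul_comm, pow_mul, QuotientGroup.mk_pow]
  have hsq : ∀ e : P, e ^ 2 ∈ zpowers (g ^ 2) := fun e => by
    by_cases he : e ∈ zpowers g
    · obtain ⟨a, rfl⟩ := he
      exact ⟨a, by change (g ^ 2) ^ a = (g ^ a) ^ 2; rw [← zpow_two_mul]; group⟩
    · have he2 : e ^ 2 ∈ zpowers g := by
        obtain ⟨a, ha⟩ := hq e
        rw [← QuotientGroup.eq_one_iff, QuotientGroup.mk_pow, ← ha]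
        change ((h : P ⧸ zpowers g) ^ a) ^ 2 = 1
        rw [← zpow_natCast, ← zpow_mul, mul_comm, zpow_mul, zpow_natCast, ← QuotientGroup.mk_pow,
          (QuotientGroup.eq_one_iff _).2 hh, one_zpow]
      obtain ⟨a, ha⟩ := hq2 he2 he
      change g ^ a = u⁻¹ * e at ha
      refine ⟨2 * s * a, ?_⟩
      change (g ^ 2) ^ (2 * s * a) = e ^ 2
      calc (g ^ 2) ^ (2 * s * a) = (g ^ r) ^ a * g ^ a := by
            rw [← zpow_two_mul, ← zpow_mul, ← zpow_add, show r = 4 * s - 1 by omega]; congr 1; ring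
        _ = u * g ^ a * (u⁻¹ * g ^ a) := by rw [hr, conj_zpow, mul_assoc]
        _ = e ^ 2 := by
            rw [ha, mul_inv_cancel_left, ← mul_assoc u⁻¹, ← mul_inv_rev, ← pow_two u, hu, pow_two]
            simp
  obtain ⟨a, ha⟩ := hK (zpowers ((g ^ 2) ^ 2)) (fun e => by
    obtain ⟨a, ha⟩ := hsq e
    exact ⟨a, by rw [← ha]; change ((g ^ 2) ^ 2) ^ a = ((g ^ 2) ^ a) ^ 2; rw [← zpow_two_mul]; group⟩)
    u g
  change ((g ^ 2) ^ 2) ^ a = ⁅u, g⁆ at ha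
  refine sq_eq_one_of_not_dvd hP (m := r - 1 - 2 * (2 * a)) (by omega) ?_
  rw [zpow_sub, zpow_two_mul, zpow_two_mul, ha, zpow_sub, hr, commutatorElement_def]
  simp

section Main

variable [Finite P] {x y : P}

theorem sq_notMem (hP : IsPGroup 2 P) (h : ∀ g : P, ∃ i j : ℤ, g = x ^ i * y ^ j)
    (hm : ¬ Cfsg.IsMetacyclic P) : x ^ 2 ∉ B ((x ^ 2) ^ 2) ((y ^ 2) ^ 2) := by
  obtain ⟨ht, hl⟩ := lev_top h
  intro hx
  obtain ⟨i, j, e⟩ := ((hl.sq hP).sq hP).bi _ hx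
  have h1 : x ^ 2 ∈ zpowers y := by
    refine mem_of_odd hP (i := 1 - 2 * i) (odd_one.sub_even (even_two_mul i)) ?_
    rw [show (x ^ 2) ^ (1 - 2 * i) = (((x ^ 2) ^ 2) ^ i)⁻¹ * x ^ 2 by
      rw [← zpow_two_mul (x ^ 2)]; group, inv_mul_eq_iff_eq_mul.2 e]
    exact zpow_mem (pow_mem (pow_mem (mem_zpowers y) 2) 2) j
  have := hl.n1
  refine hm (PLocal.Rank2.isMetacyclic_of_pair ((der_le (D := B (x ^ 2) y) ht ?_).trans
    (B_le h1 (mem_zpowers y))) (B_comm x y ▸ ht :))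
  exact mul_mem (this.conj_mem _ right_mem x) (inv_mem right_mem)

theorem Lev.mul_sq_mem_iff (hP : IsPGroup 2 P) (hl : Lev x y) {g k : P}
    (hk : g⁻¹ * k ∈ B (x ^ 2) (y ^ 2)) :
    k ^ 2 ∈ B ((x ^ 2) ^ 2) ((y ^ 2) ^ 2) ↔ g ^ 2 ∈ B ((x ^ 2) ^ 2) ((y ^ 2) ^ 2) := by
  rw [show k ^ 2 = g ^ 2 * (⁅g⁻¹, g⁻¹ * k⁆ * (g⁻¹ * k) ^ 2) by
    simp only [commutatorElement_def, pow_two]; group]
  exact Subgroup.mul_mem_cancel_right _
    (mul_mem ((hl.sq hP).comm hP _ hk) ((hl.sq hP).bi.sq_mem hP hk))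

theorem coset_cases (hP : IsPGroup 2 P) (h : ∀ g : P, ∃ i j : ℤ, g = x ^ i * y ^ j) (g : P) :
    g ∈ B (x ^ 2) (y ^ 2) ∨ x⁻¹ * g ∈ B (x ^ 2) (y ^ 2) ∨ y⁻¹ * g ∈ B (x ^ 2) (y ^ 2) ∨
      (x * y)⁻¹ * g ∈ B (x ^ 2) (y ^ 2) := by
  obtain ⟨ht, hl⟩ := lev_top h
  have hb := (hl.bi.sq_left hP).symm
  rcases hl.bi.cases (ht ▸ mem_top g) with h1 | h1 <;>
    rcases hb.cases (mem_symm h1) with h2 | h2
  · exact Or.inl (mem_symm h2)
  · exact Or.inr (Or.inr (Or.inl (mem_symm h2)))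
  · exact Or.inr (Or.inl (mem_symm h2))
  · exact Or.inr (Or.inr (Or.inr (by simpa [mul_assoc] using mem_symm h2)))

theorem Lev.commute_invol (hP : IsPGroup 2 P) (hl : Lev x y) {u v : P}
    (hu : u ∈ B (x ^ 2) (y ^ 2)) (hv : v ∈ B (x ^ 2) (y ^ 2)) (hu2 : u ^ 2 = 1) (hv2 : v ^ 2 = 1) :
    u * v = v * u := by
  have h3 := (((hl.sq hP).sq hP).sq hP).bi
  refine congrArg Subtype.val (commute_of_powerful (hP.to_subgroup (B (x ^ 2) (y ^ 2)))
    (BG.metacyclicS sq_le_left (hl.isMetacyclic hP)) (fun K hK a b => ?_) (u := ⟨u, hu⟩)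
    (v := ⟨v, hv⟩) (Subtype.ext hu2) (Subtype.ext hv2))
  obtain ⟨i, j, e⟩ := h3 _ (hl.comm_pow hP a.2 b.2)
  rw [show ⁅a, b⁆ = (((⟨x ^ 2, left_mem⟩ : B (x ^ 2) (y ^ 2)) ^ 2) ^ 2) ^ i *
    (((⟨y ^ 2, right_mem⟩ : B (x ^ 2) (y ^ 2)) ^ 2) ^ 2) ^ j from Subtype.ext e]
  exact mul_mem (zpow_mem (hK _) i) (zpow_mem (hK _) j)

/-- If the rank is at least three there is an involution in the third maximal subgroup that
centralizes the involutions of the Frattini subgroup. -/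
theorem exists_invol (hP : IsPGroup 2 P) (h : ∀ g : P, ∃ i j : ℤ, g = x ^ i * y ^ j)
    (hr : ¬ Cfsg.PRankLE 2 2 P) : ∃ t : P, (x * y)⁻¹ * t ∈ B (x ^ 2) (y ^ 2) ∧ t ^ 2 = 1 ∧
      ∀ u ∈ B (x ^ 2) (y ^ 2), u ^ 2 = 1 →
        t * u = u * t ∧ ∀ k ∈ B (x ^ 2) (y ^ 2), k * u = u * k := by
  have : Fact (Nat.Prime 2) := ⟨Nat.prime_two⟩
  obtain ⟨ht, hl⟩ := lev_top h
  have hm : ¬ Cfsg.IsMetacyclic P := fun hm => hr (pRankLE_of_isMetacyclic hm)
  have h' : ∀ g : P, ∃ i j : ℤ, g = y ^ i * x ^ j := fun g =>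
    hl.bi.symm g (mem_symm (ht ▸ mem_top g))
  have hΦ : Cfsg.PRankLE 2 2 (B (x ^ 2) (y ^ 2)) :=
    pRankLE_of_isMetacyclic (BG.metacyclicS sq_le_left (hl.isMetacyclic hP))
  have hn := (hl.sq hP).n0
  simp only [Cfsg.PRankLE, not_forall, not_le] at hr
  obtain ⟨A, hA, hA2, hc⟩ := hr
  have hAc : ∀ a ∈ A, ∀ b ∈ A, a * b = b * a := fun a ha b hb =>
    setLike_mul_comm (s := A) ha hb
  have hcase : ∀ a ∈ A, a ∈ B (x ^ 2) (y ^ 2) ∨ (x * y)⁻¹ * a ∈ B (x ^ 2) (y ^ 2) := fun a ha => by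
    rcases coset_cases hP h a with h1 | h1 | h1 | h1
    · exact Or.inl h1
    · exact absurd ((hl.mul_sq_mem_iff hP h1).1 (hA2 a ha ▸ one_mem _)) (sq_notMem hP h hm)
    · exact absurd (mem_symm ((hl.mul_sq_mem_iff hP h1).1 (hA2 a ha ▸ one_mem _)))
        (sq_notMem hP h' hm)
    · exact Or.inr h1
  obtain ⟨t, htA, htΦ⟩ : ∃ t ∈ A, t ∉ B (x ^ 2) (y ^ 2) := by
    by_contra hle
    push Not at hle
    have := hΦ (A.subgroupOf _) inferInstance fun a ha => Subtype.ext (hA2 _ ha)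
    rw [Nat.card_congr (subgroupOfEquivOfLe hle).toEquiv] at this
    omega
  have ht' := (hcase t htA).resolve_left htΦ
  have hle : A ≤ A ⊓ B (x ^ 2) (y ^ 2) ⊔ zpowers t := fun a ha => by
    rcases hcase a ha with h1 | h1
    · exact mem_sup_left ⟨ha, h1⟩
    · rw [show a = t * (t⁻¹ * a) by group]
      refine mul_mem (mem_sup_right (mem_zpowers t))
        (mem_sup_left (mem_inf.2 ⟨mul_mem (inv_mem htA) ha, ?_⟩))
      rw [show t⁻¹ * a = ((x * y)⁻¹ * t)⁻¹ * ((x * y)⁻¹ * a) by group]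
      exact mul_mem (inv_mem ht') h1
  have hc2 := (card_le_of_le hle).trans (card_sup_zpowers_le (C := A ⊓ B (x ^ 2) (y ^ 2))
    (mem_normalizer_fintype fun n hn' => mem_inf.2 ⟨mul_mem (mul_mem htA hn'.1) (inv_mem htA),
      hn.conj_mem n hn'.2 t⟩) (by rw [← pow_two, hA2 t htA]; exact one_mem _))
  have : IsMulCommutative ↥(A ⊓ B (x ^ 2) (y ^ 2)) :=
    ⟨⟨fun a b => Subtype.ext (hAc _ a.2.1 _ b.2.1)⟩⟩
  obtain ⟨V₀, hV₀⟩ := exists_kleinFour_of_not_pRankLE (S := ↥(A ⊓ B (x ^ 2) (y ^ 2))) fun h1 => by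
    have := h1 ⊤ inferInstance fun a _ => Subtype.ext (hA2 _ a.2.1)
    rw [card_top] at this
    omega
  set V := V₀.map (A ⊓ B (x ^ 2) (y ^ 2)).subtype
  have hV : IsKleinFour V :=
    isKleinFour_of_equiv (V₀.equivMapOfInjective _ (subtype_injective _)) hV₀
  have hVle : V ≤ A ⊓ B (x ^ 2) (y ^ 2) := map_subtype_le V₀
  have hmem : ∀ u ∈ B (x ^ 2) (y ^ 2), u ^ 2 = 1 → u ∈ V := fun u hu hu2 =>
    mem_of_pRankLE' hΦ hV (hVle.trans inf_le_right) hu (pow_two u ▸ hu2) fun a ha =>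
      hl.commute_invol hP hu (hVle ha).2 hu2 (hA2 a (hVle ha).1)
  have hVn : V.Normal := ⟨fun n hn' g => hmem _ (hn.conj_mem n (hVle hn').2 g)
    (by rw [conj_pow, hA2 n (hVle hn').1]; simp)⟩
  obtain ⟨z, hzV, hz, hzo⟩ := PGroup.exists_mem_center_orderOf_eq hP V fun e => by
    have := hV.card_four
    rw [e, card_bot] at this
    omega
  have hsq : ∀ g : P, g ^ 2 ∈ centralizer (V : Set P) := fun g =>
    DihSyl.sq_mem_centralizer_of_fix hV hzV (by rintro rfl; simp at hzo)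
      (normalizer_eq_top V ▸ mem_top g) (by rw [mem_center_iff.1 hz g]; simp)
  exact ⟨t, ht', hA2 t htA, fun u hu hu2 => ⟨hAc t htA u (hVle (hmem u hu hu2)).1, fun k hk =>
    (B_le (hsq x) (hsq y) hk u (hmem u hu hu2)).symm⟩⟩

theorem sub_case (hP : IsPGroup 2 P) (h : ∀ g : P, ∃ i j : ℤ, g = x ^ i * y ^ j)
    (hm : ¬ Cfsg.IsMetacyclic P) {D : Subgroup P} (hD : D ≠ ⊤) {w : P} (hw : w ∈ D)
    (hxw : x⁻¹ * w ∈ B (x ^ 2) (y ^ 2)) :
    Cfsg.IsMetacyclic D ∧ ∀ u ∈ D, u ^ 2 = 1 → u ∈ B (x ^ 2) (y ^ 2) := by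
  have : Fact (Nat.Prime 2) := ⟨Nat.prime_two⟩
  obtain ⟨ht, hl⟩ := lev_top h
  have hle : D ≤ B x (y ^ 2) := fun d hd => by
    by_contra hd'
    have h1 := mem_symm ((hl.bi.symm.cases (mem_symm (ht ▸ mem_top d))).resolve_left
      fun e => hd' (mem_symm e))
    have hfr : B (x ^ 2) (y ^ 2) ≤ frattini P :=
      B_le (PGroup.pow_mem_frattini hP x) (PGroup.pow_mem_frattini hP y)
    have hx : x ∈ D ⊔ frattini P := by
      rw [show x = w * (x⁻¹ * w)⁻¹ by group]; exact mul_mem_sup hw (inv_mem (hfr hxw))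
    have hy : y ∈ D ⊔ frattini P := by
      rw [show y = d * (y⁻¹ * d)⁻¹ by group]
      exact mul_mem (mem_sup_left hd) (inv_mem (B_le hx (mem_sup_right (hfr right_mem)) h1))
    exact hD (frattini_nongenerating (top_le_iff.1 (ht ▸ B_le hx hy)))
  refine ⟨BG.metacyclicS hle (hl.isMetacyclic hP), fun u hu hu2 => ?_⟩
  exact ((hl.bi.sq_right hP).cases (hle hu)).resolve_right fun e =>
    sq_notMem hP h hm ((hl.mul_sq_mem_iff hP e).1 (hu2 ▸ one_mem _))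

theorem two_group (hP : IsPGroup 2 P) (h : ∀ g : P, ∃ i j : ℤ, g = x ^ i * y ^ j)
    (hr : ¬ Cfsg.PRankLE 2 2 P) : ∃ M : Subgroup P, M.Normal ∧ x ∉ M ∧ ⊤ ≤ M ⊔ zpowers x ∧
      IsPGroup 2 (MulAut P) ∧ ∀ D : Subgroup P, ¬ IsPGroup 2 (MulAut D) →
        D ≤ M ∨ ((∀ a ∈ D, ∀ b ∈ D, a * b = b * a) ∧ ∀ u ∈ D, u * u = 1 → u ∈ center P) := by
  have : Fact (Nat.Prime 2) := ⟨Nat.prime_two⟩
  obtain ⟨t, ht1, ht2, ht3⟩ := exists_invol hP h hr
  obtain ⟨ht, hl⟩ := lev_top h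
  have hm : ¬ Cfsg.IsMetacyclic P := fun hm => hr (pRankLE_of_isMetacyclic hm)
  have h' : ∀ g : P, ∃ i j : ℤ, g = y ^ i * x ^ j := fun g =>
    hl.bi.symm g (mem_symm (ht ▸ mem_top g))
  have hn := (hl.sq hP).n0
  have hn2 := ((hl.sq hP).sq hP).n0
  have hx := sq_notMem hP h hm
  have hy : y ^ 2 ∉ B ((x ^ 2) ^ 2) ((y ^ 2) ^ 2) := fun e => sq_notMem hP h' hm (mem_symm e)
  obtain ⟨M, hMd⟩ : ∃ M, M = B (x ^ 2) (y ^ 2) ⊔ zpowers t := ⟨_, rfl⟩
  have hΦM : B (x ^ 2) (y ^ 2) ≤ M := hMd ▸ le_sup_left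
  have htM : t ∈ M := hMd ▸ mem_sup_right (mem_zpowers t)
  have hxy : ∀ g, (x * y)⁻¹ * g ∈ B (x ^ 2) (y ^ 2) → g ∈ M := fun g hg => by
    rw [show g = t * (((x * y)⁻¹ * t)⁻¹ * ((x * y)⁻¹ * g)) by group]
    exact mul_mem htM (hΦM (mul_mem (inv_mem ht1) hg))
  have hM : ∀ g, g ∈ M ↔ g ^ 2 ∈ B ((x ^ 2) ^ 2) ((y ^ 2) ^ 2) := fun g => by
    refine ⟨fun hg => ?_, fun hg => ?_⟩
    · rw [hMd, sup_comm] at hg
      obtain ⟨_, ⟨k, rfl⟩, c, hc, rfl⟩ := mem_sup_of_normal_right.1 hg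
      refine (hl.mul_sq_mem_iff hP (g := t ^ k) (by simpa using hc)).2 ?_
      rw [← zpow_natCast (t ^ k), ← zpow_mul, mul_comm, zpow_mul, zpow_natCast, ht2, one_zpow]
      exact one_mem _
    · rcases coset_cases hP h g with h1 | h1 | h1 | h1
      · exact hΦM h1
      · exact absurd ((hl.mul_sq_mem_iff hP h1).1 hg) hx
      · exact absurd ((hl.mul_sq_mem_iff hP h1).1 hg) hy
      · exact hxy g h1
  have hMn : M.Normal := ⟨fun n hn' g => (hM _).2 (by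
    rw [conj_pow]; exact hn2.conj_mem _ ((hM n).1 hn') g)⟩
  have hxM : x ∉ M := fun e => hx ((hM x).1 e)
  have hidx : ∀ g, g ∉ M → x⁻¹ * g ∈ M := fun g hg => by
    rcases coset_cases hP h g with h1 | h1 | h1 | h1
    · exact absurd (hΦM h1) hg
    · exact hΦM h1
    · refine hxy _ ?_
      rw [show (x * y)⁻¹ * (x⁻¹ * g) = y⁻¹ * (x ^ 2)⁻¹ * y⁻¹⁻¹ * (y⁻¹ * g) by
        rw [pow_two]; group]
      exact mul_mem (hn.conj_mem _ (inv_mem left_mem) _) h1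
    · exact absurd (hxy g h1) hg
  have htop : ⊤ ≤ M ⊔ zpowers x := fun g _ => by
    by_cases hg : g ∈ M
    · exact mem_sup_left hg
    · rw [show g = x * (x⁻¹ * g) by group]
      exact mul_mem (mem_sup_right (mem_zpowers x)) (mem_sup_left (hidx g hg))
  have hinv : ∀ α : MulAut P, ∀ g ∈ B (x ^ 2) (y ^ 2), α g ∈ B (x ^ 2) (y ^ 2) := fun α =>
    hl.bi.map_mem hP α.toMonoidHom fun g _ => ht ▸ mem_top _
  have hA : IsPGroup 2 (MulAut P) := by
    refine (Fusion.autDiag_of_chain hP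
      (fun i => if i = 0 then B (x ^ 2) (y ^ 2) else if i = 1 then M else ⊤) 2
      (B_le (PGroup.pow_mem_frattini hP x) (PGroup.pow_mem_frattini hP y)) rfl (fun i => ?_)
      (fun i hi => ?_)).isPGroup
    · split_ifs
      · exact fun α _ => hinv α
      · exact fun α _ g hg => (hM _).2 (by
          rw [← map_pow]
          exact (hl.sq hP).bi.map_mem hP α.toMonoidHom (hinv α) _ ((hM g).1 hg))
      · exact fun α _ g _ => mem_top _
    · interval_cases i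
      · exact ⟨hΦM, t, hMd.le⟩
      · exact ⟨le_top, x, htop⟩
  refine ⟨M, hMn, hxM, htop, hA, fun D hD => ?_⟩
  refine or_iff_not_imp_left.2 fun hDM => ?_
  obtain ⟨w, hw, hwM⟩ := SetLike.not_le_iff_exists.1 hDM
  have hDt : D ≠ ⊤ := by
    rintro rfl
    exact hD (hA.of_equiv (MulAut.congr topEquiv.symm))
  obtain ⟨hmD, hinvol⟩ : Cfsg.IsMetacyclic D ∧ ∀ u ∈ D, u ^ 2 = 1 → u ∈ B (x ^ 2) (y ^ 2) := by
    rcases coset_cases hP h w with h1 | h1 | h1 | h1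
    · exact absurd (hΦM h1) hwM
    · exact sub_case hP h hm hDt hw h1
    · exact (sub_case hP h' hm hDt hw (mem_symm h1)).imp_right fun e u hu hu2 =>
        mem_symm (e u hu hu2)
    · exact absurd (hxy w h1) hwM
  rcases Fusion.autDiag_of_isMetacyclic (hP.to_subgroup D) hmD with ⟨n, -, ⟨e⟩⟩ | ⟨-, ⟨e⟩⟩ | h1
  · have hc : ∀ a ∈ D, ∀ b ∈ D, a * b = b * a := fun a ha b hb =>
      congrArg Subtype.val (e.injective (a₁ := ⟨a, ha⟩ * ⟨b, hb⟩) (a₂ := ⟨b, hb⟩ * ⟨a, ha⟩) (by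
        rw [map_mul, map_mul, mul_comm]))
    refine ⟨hc, fun u hu hu2 => mem_center_iff.2 fun g => ?_⟩
    obtain ⟨h1, h2⟩ := ht3 u (hinvol u hu (pow_two u ▸ hu2)) (pow_two u ▸ hu2)
    have hMc : M ≤ centralizer {u} := hMd ▸ sup_le
      (fun k hk => mem_centralizer_singleton_iff.2 (h2 k hk))
      (zpowers_le.2 (mem_centralizer_singleton_iff.2 h1))
    have hxc : x ∈ centralizer {u} := by
      rw [show x = w * (x⁻¹ * w)⁻¹ by group]
      exact mul_mem (mem_centralizer_singleton_iff.2 (hc w hw u hu)) (inv_mem (hMc (hidx w hwM)))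
    exact mem_centralizer_singleton_iff.1 (sup_le hMc (zpowers_le.2 hxc) (htop (mem_top g)))
  · exfalso
    have hq : ∀ a : QuaternionGroup 2, a ^ 2 ≠ 1 → ∃ b, b ^ 2 = a ^ 2 ∧ (a * b) ^ 2 = a ^ 2 := by
      decide
    have hw2 : w ^ 2 ∉ B ((x ^ 2) ^ 2) ((y ^ 2) ^ 2) := fun e => hwM ((hM w).2 e)
    obtain ⟨b, hb1, hb2⟩ := hq (e ⟨w, hw⟩) fun e1 => hw2 (by
      rw [← map_pow, map_eq_one_iff _ e.injective] at e1
      rw [show w ^ 2 = 1 from congrArg Subtype.val e1]; exact one_mem _)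
    obtain ⟨b, rfl⟩ := e.surjective b
    rw [← map_pow, ← map_pow, e.injective.eq_iff] at hb1
    rw [← map_mul, ← map_pow, ← map_pow, e.injective.eq_iff] at hb2
    have hb1' : (b : P) ^ 2 = w ^ 2 := congrArg Subtype.val hb1
    have hb2' : (w * b) ^ 2 = w ^ 2 := congrArg Subtype.val hb2
    have h3 : (b : P) ∉ M := fun e => hw2 (hb1' ▸ (hM _).1 e)
    have h4 : w * b ∉ M := fun e => hw2 (hb2' ▸ (hM _).1 e)
    refine h3 ?_
    rw [show (b : P) = (x⁻¹ * w)⁻¹ * (x⁻¹ * (w * b)) by group]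
    exact mul_mem (inv_mem (hidx w hwM)) (hidx _ h4)
  · exact absurd h1.isPGroup hD

end Main

theorem pRankLE_of_bicyclic {G : Type*} [Group G] [Finite G] (hG : ∀ H : Subgroup G, H.index ≠ 2)
    (S : Sylow 2 G) {x y : (S : Subgroup G)} (h : ∀ g, ∃ i j : ℤ, g = x ^ i * y ^ j) :
    Cfsg.PRankLE 2 2 G := by
  have : Fact (Nat.Prime 2) := ⟨Nat.prime_two⟩
  suffices hS : Cfsg.PRankLE 2 2 (S : Subgroup G) by
    intro A hA hA2
    obtain ⟨g, -, hg⟩ := (Tech.IsSylowIn.of_sylow_top S).exists_cj_le (Q := A)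
      (Tech.isPGroup_iff_mem.2 fun a ha => ⟨1, by simpa using hA2 a ha⟩) le_top
    have := hS ((Tech.cj g A).subgroupOf S) inferInstance fun a ha => Subtype.ext (by
      have : (g⁻¹ * a * g) ^ 2 = 1 := hA2 _ (Tech.mem_cj.1 ha)
      rw [show g⁻¹ * a * g = g⁻¹ * a * g⁻¹⁻¹ by simp, conj_pow, conj_eq_one_iff] at this
      exact this)
    rwa [Nat.card_congr (subgroupOfEquivOfLe hg).toEquiv, Tech.card_cj] at this
  by_contra hr
  obtain ⟨M, hMn, hxM, htop, hA, hD⟩ := two_group S.isPGroup' h hr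
  have hZ : ∀ u ∈ centralizer ((S : Subgroup G) : Set G), ∀ g : G,
      g * u * g⁻¹ ∈ centralizer ((S : Subgroup G) : Set G) → u ∈ (S : Subgroup G) →
        g * u * g⁻¹ = u := fun u hu g hg huS => by
    obtain ⟨n, hn, e⟩ := S.conj_eq_normalizer_conj_of_mem_centralizer u g⁻¹ hu (by simpa using hg)
    obtain ⟨r, hr, c, hc, e2⟩ := QDFus.exists_mul_of_coprime_mem
      (Tech.IsSylowIn.of_sylow S le_normalizer)
      (fun k hk ho => QDFus.mem_centralizer_of_isPGroup_mulAut hA hk ho) hn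
    rw [inv_inv] at e
    calc g * u * g⁻¹ = c⁻¹ * (r⁻¹ * (u * r)) * c := by rw [e, e2]; group
      _ = u := by rw [← hu r hr, inv_mul_cancel_left, mul_assoc, hc u huS, inv_mul_cancel_left]
  have hcl : ∀ a ∈ M.map (S : Subgroup G).subtype, ∀ g : G, g * a * g⁻¹ ∈ (S : Subgroup G) →
      g * a * g⁻¹ ∈ M.map (S : Subgroup G).subtype := fun a ha g hg => by
    refine Transfer.alperin_induction' S (fun A g => ∀ a ∈ A, a ∈ M.map (S : Subgroup G).subtype →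
      g * a * g⁻¹ ∈ M.map (S : Subgroup G).subtype) (fun A B g hAB hB a ha => hB a (hAB ha))
      (fun A g k h1 h2 a ha haM => by
        simpa [mul_assoc] using h2 _ (Tech.conj_mem_cj.2 ha) (h1 a ha haM))
      (fun D hDS hsyl k hk a ha haM => ?_) (zpowers a) g
      (zpowers_le.2 (map_subtype_le M ha)) (by rw [Tech.cj_zpowers]; exact zpowers_le.2 hg) a
      (mem_zpowers a) ha
    by_cases hDM : D.subgroupOf S ≤ M
    · have h1 := Tech.conj_mem_of_mem_normalizer hk ha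
      exact ⟨⟨_, hDS h1⟩, hDM h1, rfl⟩
    obtain ⟨r, hr, c, hc, rfl⟩ := QDFus.exists_mul_of_coprime_mem (D := centralizer (D : Set G))
      hsyl (fun l hl ho => by
        by_cases hp : IsPGroup 2 (MulAut D)
        · exact QDFus.mem_centralizer_of_isPGroup_mulAut hp hl ho
        obtain ⟨h1, h2⟩ := (hD (D.subgroupOf S) fun e =>
          hp (e.of_equiv (MulAut.congr (subgroupOfEquivOfLe hDS)))).resolve_left hDM
        have h3 : ∀ u ∈ D, u * u = 1 → u ∈ centralizer ((S : Subgroup G) : Set G) :=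
          fun u hu hu2 s hs => congrArg Subtype.val
            (mem_center_iff.1 (h2 ⟨u, hDS hu⟩ hu (Subtype.ext hu2)) ⟨s, hs⟩)
        refine QDFus.mem_centralizer_of_fix_involutions (S.isPGroup'.to_le hDS)
          (fun a ha b hb => congrArg Subtype.val (h1 ⟨a, hDS ha⟩ ha ⟨b, hDS hb⟩ hb)) hl
          (Nat.coprime_two_right.1 ho) fun u hu hu2 => hZ u (h3 u hu hu2) l
            (h3 _ (Tech.conj_mem_of_mem_normalizer hl hu) ?_) (hDS hu)
        rw [conj_mul, hu2]; simp) hk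
    obtain ⟨a, haM, rfl⟩ := haM
    refine ⟨_, hMn.conj_mem a haM ⟨r, hr.1⟩, ?_⟩
    change r * a * r⁻¹ = r * c * a * (r * c)⁻¹
    rw [mul_assoc r c, ← hc a ha]
    group
  have := Fusion.eq_of_closed_of_cyclic hG S (map_subtype_le M) hcl x.2 fun s hs => by
    have := mem_map_of_mem (S : Subgroup G).subtype (htop (mem_top ⟨s, hs⟩))
    rwa [Subgroup.map_sup, MonoidHom.map_zpowers] at this
  have hx : (x : G) ∈ M.map (S : Subgroup G).subtype := this.symm ▸ x.2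
  obtain ⟨a, ha, e⟩ := hx
  exact hxM ((Subtype.ext e : a = x) ▸ ha)

end CfsgLib.TwoGrp.Bic
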