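import Mathlib
import Cfsg.Agent.Lib.ExtraTwo.Classify

/-! The orthogonal group `O₄⁻(2)` acts as `S₅` on the five singular vectors. -/

set_option autoImplicit false

namespace CfsgLib.TwoGrp.O4m

open CfsgLib.OrthE CfsgLib.ExtraTwo

abbrev W : Type := (Fin 1 ⊕ Fin 1) ⊕ Fin 2 → ZMod 2

abbrev qm : QuadraticForm (ZMod 2) W := qMinus (ZMod 2) 1 1 1

def mk4 (a b c d : ZMod 2) : W := Sum.elim (Sum.elim (fun _ => a) (fun _ => b)) ![c, d]

def qf (v : W) : ZMod 2 :=
  v (.inl (.inl 0)) * v (.inl (.inr 0)) + (v (.inr 0) ^ 2 + v (.inr 0) * v (.inr 1) + v (.inr 1) ^ 2)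

theorem qm_eq (v : W) : qm v = qf v := by
  rw [qMinus_apply]; simp [qf]

/-- The five singular vectors. -/
def sv : Fin 5 → W := ![mk4 1 0 0 0, mk4 0 1 0 0, mk4 1 1 1 0, mk4 1 1 0 1, mk4 1 1 1 1]

theorem qf_zero : ∀ v : W, qf v = 0 ↔ v = 0 ∨ ∃ i, v = sv i := by decide

theorem sv_inj : ∀ i j, sv i = sv j → i = j := by decide

theorem sv_ne : ∀ i, sv i ≠ 0 := by decide

theorem qf_ne : ∀ v : W, qf v ≠ 0 → ∃ i j, i ≠ j ∧ v = sv i + sv j := by decide

theorem sv_add : ∀ i j k l, i ≠ j → sv i + sv j = sv k + sv l →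
    (k = i ∧ l = j) ∨ (k = j ∧ l = i) := by decide

theorem qm_zero (v : W) : qm v = 0 ↔ v = 0 ∨ ∃ i, v = sv i := by rw [qm_eq, qf_zero]

theorem qm_ne (v : W) (h : qm v ≠ 0) : ∃ i j, i ≠ j ∧ v = sv i + sv j :=
  qf_ne v (by rwa [← qm_eq])

theorem exists_idx (g : O qm) (i : Fin 5) : ∃ j, g.1 (sv i) = sv j := by
  have h : qm (g.1 (sv i)) = 0 := by
    rw [g.2]; exact (qm_zero _).mpr (Or.inr ⟨i, rfl⟩)
  rcases (qm_zero _).mp h with h | h
  · exact absurd (g.1.map_eq_zero_iff.mp h) (sv_ne i)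
  · exact h

noncomputable def idx (g : O qm) (i : Fin 5) : Fin 5 := (exists_idx g i).choose

theorem idx_spec (g : O qm) (i : Fin 5) : g.1 (sv i) = sv (idx g i) := (exists_idx g i).choose_spec

theorem idx_mul (g h : O qm) (i : Fin 5) : idx (g * h) i = idx g (idx h i) := by
  apply sv_inj
  rw [← idx_spec, ← idx_spec, ← idx_spec]; rfl

theorem idx_one (i : Fin 5) : idx 1 i = i := by
  apply sv_inj
  rw [← idx_spec]; rfl

noncomputable def psi : O qm →* Equiv.Perm (Fin 5) where
  toFun g := ⟨idx g, idx g⁻¹, fun i => by rw [← idx_mul, inv_mul_cancel, idx_one],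
    fun i => by rw [← idx_mul, mul_inv_cancel, idx_one]⟩
  map_one' := Equiv.ext idx_one
  map_mul' g h := Equiv.ext (idx_mul g h)

theorem psi_spec (g : O qm) (i : Fin 5) : g.1 (sv i) = sv (psi g i) := idx_spec g i

theorem psi_injective : Function.Injective psi := by
  rw [injective_iff_map_eq_one]
  intro g hg
  have h1 : ∀ i, g.1 (sv i) = sv i := fun i => by rw [psi_spec, hg]; rfl
  apply Subtype.ext
  apply LinearEquiv.ext
  intro v
  change g.1 v = v
  by_cases hv : qm v = 0
  · rcases (qm_zero v).mp hv with rfl | ⟨i, rfl⟩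
    · exact map_zero _
    · exact h1 i
  · obtain ⟨i, j, -, rfl⟩ := qm_ne v hv
    rw [map_add, h1, h1]

theorem card_O : Nat.card (O qm) = 120 := by
  rw [card_O_qMinus 1 anisotropic_zmod_two]
  simp

theorem psi_bijective : Function.Bijective psi := by
  have : Finite (O qm) := Nat.finite_of_card_ne_zero (by rw [card_O]; norm_num)
  rw [Nat.bijective_iff_injective_and_card]
  refine ⟨psi_injective, ?_⟩
  rw [card_O, Nat.card_perm]; simp [Nat.factorial]

theorem card_W : Nat.card W = 16 := by simp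

theorem swap_of_fix : ∀ t : Equiv.Perm (Fin 5), t * t = 1 → t ≠ 1 → ∀ i j, i ≠ j → t i = i →
    t j = j → t.support.card = 2 := by decide +kernel

/-- An involution in a subgroup of order ten of `S₅` has at most one fixed point. -/
theorem fix_unique {K : Subgroup (Equiv.Perm (Fin 5))} (hK : Nat.card K = 10)
    {t : Equiv.Perm (Fin 5)} (ht : t ∈ K) (h2 : t * t = 1) (h1 : t ≠ 1) {i j : Fin 5}
    (hi : t i = i) (hj : t j = j) : i = j := by
  classical
  by_contra hij
  have hs : t.IsSwap := Equiv.Perm.card_support_eq_two.mp (swap_of_fix t h2 h1 i j hij hi hj)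
  have : K = ⊤ := by
    apply Equiv.Perm.subgroup_eq_top_of_swap_mem (τ := t) _ _ ht hs
    · simp; norm_num
    · rw [← Nat.card_eq_fintype_card (α := K), hK]; simp
  rw [this, Subgroup.card_top, Nat.card_perm] at hK
  simp [Nat.factorial] at hK

variable {P : Type*} [Group P]

/-- Coordinates for an extraspecial group of order 32 of 2-rank 2. -/
theorem exists_coord [Finite P] (hex : Cfsg.IsExtraspecial 2 P) (h32 : Nat.card P = 32)
    (hminus : ∀ A : Subgroup P, Cfsg.IsElementaryAbelian 2 A → Nat.card A ≤ 4) :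
    ∃ (z : P) (π : P → W), Coord (⊤ : Subgroup P) z qm π := by
  obtain ⟨z, e⟩ := exists_ES_top hex
  have hcard : Nat.card (⊤ : Subgroup P) = 2 ^ (2 * 2 + 1) := by rw [Subgroup.card_top, h32]; rfl
  obtain ⟨π, c⟩ := (e.minusType_of_forall hcard fun A _ h1 h2 => by
    have := hminus A h1
    omega).coord
  exact ⟨z, π, c⟩

theorem card_inn [Finite P] {z : P} (e : ES (⊤ : Subgroup P) z) :
    2 * Nat.card (Cfsg.Inn P) = Nat.card P := by
  have h1 : (MulAut.conj : P →* MulAut P).ker = Subgroup.zpowers z := by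
    ext x
    rw [e.mem_zpowers, ← e.center_iff, MonoidHom.mem_ker]
    constructor
    · intro h
      refine ⟨trivial, fun q _ => ?_⟩
      have := DFunLike.congr_fun h q
      simp only [MulAut.conj_apply, MulAut.one_apply] at this
      rw [← mul_inv_eq_iff_eq_mul.mp this]
    · intro h
      ext q
      simp only [MulAut.conj_apply, MulAut.one_apply]
      rw [← h.2 q trivial, mul_inv_cancel_right]
  have h2 := Subgroup.card_mul_index (MulAut.conj : P →* MulAut P).ker
  rw [Subgroup.index_ker, h1, Nat.card_zpowers, e.orderOf_eq] at h2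
  exact h2

end CfsgLib.TwoGrp.O4m
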